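import Groth.Agent.RefNumLib.Main
import Groth.Agent.KFlatLib.PullTensor
import Groth.Agent.ConsLib.ModLoci
import Groth.Prelude.Def_Frob

/-!
# Divisors of reflexive Frobenius pullbacks of rank one reflexive modules
-/

set_option autoImplicit false
set_option linter.style.haveILetI false
universe u

open CategoryTheory CategoryTheory.Limits AlgebraicGeometry TopologicalSpace Opposite
open scoped TensorProduct

noncomputable section

namespace RefFrobLib

open RefHullLib (specializes_generic mem_of_nonempty)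
open Ref1Lib (spec spec_germ spec_smul spec_map FreeGen HasDiv)

variable {X Y : Scheme.{u}}

/-- The stalk of a pullback. -/
def pullEquiv (f : X ⟶ Y) (M : Y.Modules) (x : X) :
    letI := (f.stalkMap x).hom.toAlgebra
    (X.presheaf.stalk x ⊗[Y.presheaf.stalk (f x)] M.presheaf.stalk (f x)) ≃ₗ[X.presheaf.stalk x]
      ((Scheme.Modules.pullback f).obj M).presheaf.stalk x :=
  ((KFlatLib.stalkPullIso f x).symm.app M).toLinearEquiv

/-- The pullback of a germ. -/
def pullGerm (f : X ⟶ Y) (M : Y.Modules) (x : X) (m : M.presheaf.stalk (f x)) :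
    ((Scheme.Modules.pullback f).obj M).presheaf.stalk x :=
  letI := (f.stalkMap x).hom.toAlgebra
  pullEquiv f M x ((1 : X.presheaf.stalk x) ⊗ₜ[Y.presheaf.stalk (f x)] m)

theorem pullGerm_germ (f : X ⟶ Y) (M : Y.Modules) (x : X) {U : Y.Opens} (hU : f x ∈ U) (m : Γ(M, U)) :
    pullGerm f M x (M.presheaf.germ U (f x) hU m) =
      ((Scheme.Modules.pullback f).obj M).presheaf.germ (f ⁻¹ᵁ U) x hU (KFlatLib.puSec f m) :=
  KFlatLib.stalkPullInv_germ f M x hU m

theorem freeGen_pullGerm (f : X ⟶ Y) (M : Y.Modules) (x : X) {t : M.presheaf.stalk (f x)}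
    (ht : FreeGen M (f x) t) : FreeGen ((Scheme.Modules.pullback f).obj M) x (pullGerm f M x t) := by
  letI := (f.stalkMap x).hom.toAlgebra
  let R := Y.presheaf.stalk (f x)
  let R' := X.presheaf.stalk x
  let e : R' ≃ₗ[R'] R' ⊗[R] M.presheaf.stalk (f x) :=
    (TensorProduct.AlgebraTensorModule.rid R R' R').symm ≪≫ₗ TensorProduct.AlgebraTensorModule.congr (LinearEquiv.refl R' R')
      (LinearEquiv.ofBijective (LinearMap.toSpanSingleton R _ t) ht)
  have he : ∀ c : R', e c = c • ((1 : R') ⊗ₜ[R] t) := fun c => by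
    show c ⊗ₜ[R] ((1 : R) • t) = _
    rw [one_smul, TensorProduct.smul_tmul', smul_eq_mul, mul_one]
  let e' : R' ≃ₗ[R'] ((Scheme.Modules.pullback f).obj M).presheaf.stalk x :=
    e ≪≫ₗ pullEquiv f M x
  refine (congrArg Function.Bijective (funext fun c => ?_)).mp e'.bijective
  show pullEquiv f M x (e c) = _
  rw [he, map_smul]
  rfl

theorem pullGerm_add (f : X ⟶ Y) (M : Y.Modules) (x : X) (a b : M.presheaf.stalk (f x)) :
    pullGerm f M x (a + b) = pullGerm f M x a + pullGerm f M x b := by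
  letI := (f.stalkMap x).hom.toAlgebra
  exact (congrArg (pullEquiv f M x) (TensorProduct.tmul_add _ _ _)).trans (map_add _ _ _)

theorem pullEquiv_tmul (f : X ⟶ Y) (M : Y.Modules) (x : X) (e : X.presheaf.stalk x) (g : M.presheaf.stalk (f x)) :
    letI := (f.stalkMap x).hom.toAlgebra
    pullEquiv f M x (e ⊗ₜ g) = e • pullGerm f M x g := by
  letI := (f.stalkMap x).hom.toAlgebra
  refine (congrArg (pullEquiv f M x) ?_).trans (map_smul (pullEquiv f M x) e _)
  rw [TensorProduct.smul_tmul', smul_eq_mul, mul_one]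

theorem pullGerm_smul (f : X ⟶ Y) (M : Y.Modules) (x : X) (c : Y.presheaf.stalk (f x))
    (m : M.presheaf.stalk (f x)) :
    pullGerm f M x (c • m) = (f.stalkMap x c) • pullGerm f M x m := by
  letI := (f.stalkMap x).hom.toAlgebra
  refine Eq.trans ?_ (map_smul (pullEquiv f M x) _ _)
  refine congrArg (pullEquiv f M x) ?_
  rw [TensorProduct.tmul_smul, TensorProduct.smul_tmul', TensorProduct.smul_tmul', Algebra.smul_def, smul_eq_mul]
  rfl

variable (X) (p : ℕ) [Fact p.Prime] [FrobSch.IsCharP X p]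

theorem stalkMap_frob (x : X) (c : X.presheaf.stalk x) : (FrobSch.frob X p).stalkMap x c = c ^ p := by
  obtain ⟨U, hU, a, rfl⟩ := TopCat.Presheaf.exists_germ_eq X.presheaf (x := x) c
  refine (Scheme.Hom.germ_stalkMap_apply (FrobSch.frob X p) U x hU a).trans ?_
  exact map_pow (X.presheaf.germ U x hU).hom a p

variable {X}

/-- The Frobenius pullback of a germ. -/
def fgerm (M : X.Modules) (x : X) (m : M.presheaf.stalk x) :
    ((Scheme.Modules.pullback (FrobSch.frob X p)).obj M).presheaf.stalk x :=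
  pullGerm (FrobSch.frob X p) M x m

theorem fgerm_smul (M : X.Modules) (x : X) (c : X.presheaf.stalk x) (m : M.presheaf.stalk x) :
    fgerm p M x (c • m) = (c ^ p : X.presheaf.stalk x) • fgerm p M x m :=
  (pullGerm_smul (FrobSch.frob X p) M x c m).trans (by rw [stalkMap_frob]; rfl)

theorem fgerm_add (M : X.Modules) (x : X) (a b : M.presheaf.stalk x) :
    fgerm p M x (a + b) = fgerm p M x a + fgerm p M x b :=
  pullGerm_add (FrobSch.frob X p) M x a b

theorem fgerm_zero (M : X.Modules) (x : X) : fgerm p M x 0 = 0 :=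
  add_eq_left.mp ((fgerm_add p M x 0 0).symm.trans (by rw [add_zero]))

theorem fgerm_sum {ι : Type*} (s : Finset ι) (M : X.Modules) (x : X) (v : ι → M.presheaf.stalk x) :
    fgerm p M x (∑ i ∈ s, v i) = ∑ i ∈ s, fgerm p M x (v i) :=
  map_sum (AddMonoidHom.mk' (fgerm p M x) (fgerm_add p M x)) v s

variable [IsIntegral X]

theorem spec_fgerm (M : X.Modules) (x : X) (m : M.presheaf.stalk x) :
    spec _ x (fgerm p M x m) = fgerm p M (genericPoint X) (spec M x m) := by
  obtain ⟨U, hU, a, rfl⟩ := TopCat.Presheaf.exists_germ_eq M.presheaf (x := x) m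
  rw [spec_germ]
  exact ((congrArg (spec _ x) (pullGerm_germ (FrobSch.frob X p) M x hU a)).trans
    (spec_germ _ (U := FrobSch.frob X p ⁻¹ᵁ U) hU _)).trans
    (pullGerm_germ (FrobSch.frob X p) M (genericPoint X) (mem_of_nonempty (x := x) hU) a).symm

variable [IsLocallyNoetherian X]

/-- The reflexive Frobenius pullback of a rank one reflexive module multiplies the divisor by `p`. -/
theorem ref1_div (hX : Pi1.IsNormalScheme X) {G : X.Modules} (hG : RefHull.IsRef1 G) {D : X → ℤ}
    (hD : HasDiv G D) :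
    RefHull.IsRef1 (RefHull.ddual ((Scheme.Modules.pullback (FrobSch.frob X p)).obj G)) ∧
      HasDiv (RefHull.ddual ((Scheme.Modules.pullback (FrobSch.frob X p)).obj G)) (fun x => (p : ℤ) * D x) := by
  let P := (Scheme.Modules.pullback (FrobSch.frob X p)).obj G
  have hP : Coh.IsCoh P := ConsLib.isCoh_pullback _ hG.1
  let β := RefHull.bidualMap P
  refine ⟨⟨RefHullLib.isCoh_dual (RefHullLib.isCoh_dual hP),
    Ref1Lib.isReflexive_dual' (RefHullLib.isCoh_dual hP), ?_⟩, ?_⟩
  · obtain ⟨W, hη, σ, hσ⟩ := Ref1Lib.exists_genOn_of_genInvertible hG.2.2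
    have hgen : AmpleLib.GenOn P (W := FrobSch.frob X p ⁻¹ᵁ W) (KFlatLib.puSec (FrobSch.frob X p) σ) :=
      TwistLib.genOn_of_genAt fun x hx => by
        have h := freeGen_pullGerm (FrobSch.frob X p) G x (hσ.genAt (x := FrobSch.frob X p x) hx)
        rwa [pullGerm_germ] at h
    exact Ref1Lib.genInvertible_of_genOn (W := FrobSch.frob X p ⁻¹ᵁ W) hη _
      (Ref1Lib.genOn_map β hgen fun x hx => Ref1Lib.bijective_bidual_of_free hP (hgen.genAt hx))
  obtain ⟨v, hv, hvD⟩ := hD
  obtain ⟨v₀, hv₀⟩ := Ref1Lib.exists_gen_generic hG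
  obtain ⟨q, hq⟩ := hv₀.2 v
  dsimp only at hq
  have hq0 : q ≠ 0 := fun h0 => hv (by rw [← hq, h0]; exact zero_smul _ _)
  have hgen : FreeGen G (genericPoint X) v := by
    rw [← hq]
    refine (congrArg Function.Bijective (funext fun c => ?_)).mp
      (hv₀.comp (mulRight_bijective₀ (G₀ := X.functionField) q hq0))
    exact mul_smul c q v₀
  have hPη := freeGen_pullGerm (FrobSch.frob X p) G (genericPoint X) hgen
  let z := RefHull.stalkMapₗ β (genericPoint X) (fgerm p G (genericPoint X) v)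
  have hz : z ≠ 0 := Ref1Lib.freeGen_ne_zero
    (Ref1Lib.freeGen_map β hPη (Ref1Lib.bijective_bidual_of_free hP hPη))
  refine ⟨z, hz, fun x hx => ?_⟩
  obtain ⟨t, ht⟩ := Ref1Lib.exists_freeGen hX hG hx
  obtain ⟨φ, hφ⟩ := Ref1Lib.exists_eq_smul_spec hG (Ref1Lib.freeGen_ne_zero ht) v
  have hφ0 : φ ≠ 0 := fun h0 => hv (by rw [hφ, h0]; exact zero_smul _ _)
  have hPx := freeGen_pullGerm (FrobSch.frob X p) G x ht
  have hgx := Ref1Lib.freeGen_map β hPx (Ref1Lib.bijective_bidual_of_free hP hPx)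
  have hrel : z = (φ ^ p : X.presheaf.stalk (genericPoint X)) • spec _ x (RefHull.stalkMapₗ β x (fgerm p G x t)) := by
    rw [spec_map, spec_fgerm, ← map_smul, ← fgerm_smul, ← hφ]
  dsimp only
  rw [Ref1Lib.secOrdAt_free _ hx _ hz hgx hrel, ← hvD x hx, Ref1Lib.secOrdAt_free G hx _ hv ht hφ]
  exact Ref1Lib.ord_pow' (X := X) hφ0 p

/-- Rank one reflexive modules are transported by isomorphisms. -/
theorem ref1_of_iso {F G : X.Modules} (e : F ≅ G) (hF : RefHull.IsRef1 F) : RefHull.IsRef1 G := by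
  have hc := QCohLib.isCoh_of_iso e hF.1
  refine ⟨hc, (RefHullLib.isReflexive_iff hc).2 fun x => ?_, ?_⟩
  · haveI : Module.IsReflexive (X.presheaf.stalk x) (F.presheaf.stalk x) :=
      (RefHullLib.isReflexive_iff hF.1).1 hF.2.1 x
    let i : (F.presheaf.stalk x) ≃ₗ[X.presheaf.stalk x] (G.presheaf.stalk x) :=
      ((DerSch.stalkFunctor X x).mapIso e).toLinearEquiv
    exact Module.equiv i
  · obtain ⟨W, hη, σ, hσ⟩ := Ref1Lib.exists_genOn_of_genInvertible hF.2.2
    exact Ref1Lib.genInvertible_of_genOn hη _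
      (Ref1Lib.genOn_map e.hom hσ fun x _ => (RefHullLib.isIso_iff_stalk _).1 inferInstance x)

/-- Iterated reflexive Frobenius pullbacks of rank one reflexive modules are reflexive powers. -/
theorem nonempty_iso_refPow (hX : Pi1.IsNormalScheme X) {L : X.Modules} (hL : RefHull.IsRef1 L) {D : X → ℤ}
    (hD : HasDiv L D) (G : ℕ → X.Modules) (hG0 : G 0 = L)
    (hG : ∀ m, Nonempty (G (m + 1) ≅ RefHull.ddual ((Scheme.Modules.pullback (FrobSch.frob X p)).obj (G m))))
    (m : ℕ) : RefHull.IsRef1 (G m) ∧ HasDiv (G m) (fun x => ((p ^ m : ℕ) : ℤ) * D x) ∧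
      Nonempty (G m ≅ RefPow.refPow L (p ^ m)) := by
  have h : RefHull.IsRef1 (G m) ∧ HasDiv (G m) (fun x => ((p ^ m : ℕ) : ℤ) * D x) := by
    induction m with
    | zero =>
      rw [hG0]
      exact ⟨hL, (congrArg (HasDiv L) (funext fun x => by simp)).mp hD⟩
    | succ m ih =>
      obtain ⟨h1, h2⟩ := ref1_div p hX ih.1 ih.2
      refine ⟨ref1_of_iso (hG m).some.symm h1, ?_⟩
      exact (congrArg (HasDiv (G (m + 1))) (funext fun x => by push_cast; ring)).mp
        (Ref1Lib.hasDiv_of_iso hX h1 (hG m).some.symm h2)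
  exact ⟨h.1, h.2, Ref1Lib.nonempty_iso_of_hasDiv hX h.1 (RefPowLib.isRef1_refPow hL _) h.2
    (RefNumLib.refPow_div hX hL hD _)⟩

end RefFrobLib

end
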